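import Groth.Agent.Hensel.Lazard
import Mathlib.FieldTheory.IsSepClosed
import Mathlib.RingTheory.Unramified.Field
import Mathlib.RingTheory.Unramified.Finite

/-!
# Lifting strict henselizations along arbitrary ring maps

`A` a ring, `C` an ind-étale (`Laz`) faithfully flat `A`-algebra, `T` a henselian local ring with
separably closed residue field, `A → T` any ring map: there is an `A`-algebra map `C → T`.
In particular this holds for `C` a strict henselization of the local ring `A` and an arbitrary
(not necessarily local) ring map `A → T`.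
-/

set_option autoImplicit false
universe u

open scoped TensorProduct

namespace Groth.Agent.Sga7.H993.Lift

open Groth.Agent.Hensel Groth.Agent.Hensel.Lazard Groth.Agent.Hensel.Hull.IsHull

section Laz

variable {A C T : Type u} [CommRing A] [CommRing C] [CommRing T] [Algebra A C] [Algebra A T]
  [HenselianLocalRing T] (τ : C →ₐ[A] IsLocalRing.ResidueField T)

theorem compat (r : A) : (RingHom.id (IsLocalRing.ResidueField T))
    (algebraMap A (IsLocalRing.ResidueField T) r) = IsLocalRing.residue T (algebraMap A T r) := rfl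

theorem graph_bijective (h : Laz A C) :
    Function.Bijective (fun p : graph τ (RingHom.id _) (compat (A := A) (T := T)) => p.1.1) := by
  have hinj : ∀ t : T, ((0 : C), t) ∈ graph τ (RingHom.id _) (compat (A := A) (T := T)) →
      t = 0 := by
    rintro t ⟨E, _, _, _, χ, lam, e, h1, h2, h3⟩
    have : Algebra.FinitePresentation A E := inferInstance
    obtain ⟨E', _, _, _, ψ, χ', hχ, hψ⟩ := Laz.exists_eq_zero h χ (fun _ : Unit => e)
      (fun _ => h2)
    obtain ⟨lam', hlam'⟩ := exists_lift_henselian (RingHom.id _) τ (compat (A := A) (T := T)) χ'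
    have : lam'.comp ψ = lam := by
      refine LocalEtale.algHom_eq_of_residue_eq _ _ fun x => ?_
      rw [AlgHom.comp_apply, hlam', h1, ← hχ]
      rfl
    dsimp only at h3
    rw [← h3, ← this, AlgHom.comp_apply, hψ (), map_zero]
  constructor
  · rintro ⟨⟨s, t⟩, hp⟩ ⟨⟨s', t'⟩, hp'⟩ (e : s = s')
    subst e
    have := (graph τ (RingHom.id _) (compat (A := A) (T := T))).sub_mem hp hp'
    simp only [Prod.mk_sub_mk, sub_self] at this
    have := sub_eq_zero.mp (hinj _ this)
    subst this
    rfl
  · intro s
    obtain ⟨E, _, _, _, χ, e, he⟩ := Laz.exists_family h (fun _ : Unit => s)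
    obtain ⟨lam, hlam⟩ := exists_lift_henselian (RingHom.id _) τ (compat (A := A) (T := T)) χ
    exact ⟨⟨(s, lam (e ())), E, inferInstance, inferInstance, inferInstance, χ, lam, e (), hlam,
      he (), rfl⟩, rfl⟩

/-- An `A`-algebra map from an ind-étale `A`-algebra to the residue field of a henselian local
`A`-algebra `T` lifts uniquely to `T`. -/
theorem existsUnique_algHom (h : Laz A C) :
    ∃! g : C →ₐ[A] T, ∀ s, IsLocalRing.residue T (g s) = τ s := by
  let e : graph τ (RingHom.id _) (compat (A := A) (T := T)) ≃ₐ[A] C := AlgEquiv.ofBijective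
    ((AlgHom.fst A C T).comp (graph τ (RingHom.id _) (compat (A := A) (T := T))).val)
    (graph_bijective τ h)
  have he : ∀ p, e p = p.1.1 := fun p => rfl
  refine ⟨((AlgHom.snd A C T).comp
    (graph τ (RingHom.id _) (compat (A := A) (T := T))).val).comp e.symm.toAlgHom, fun s => ?_,
    fun g hg => ?_⟩
  · obtain ⟨p, rfl⟩ := e.surjective s
    simp only [AlgHom.comp_apply]
    change IsLocalRing.residue T (e.symm (e p)).1.2 = _
    rw [e.symm_apply_apply, graph_residue, he]
    rfl
  · ext s
    obtain ⟨p, rfl⟩ := e.surjective s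
    change _ = (e.symm (e p)).1.2
    rw [e.symm_apply_apply, he]
    obtain ⟨⟨s, t⟩, E, _, _, _, χ, lam, e, h1, h2, h3⟩ := p
    change χ e = s at h2
    change lam e = t at h3
    have : g.comp χ = lam := by
      refine LocalEtale.algHom_eq_of_residue_eq _ _ fun x => ?_
      rw [AlgHom.comp_apply, hg, h1]
      rfl
    subst h2 h3
    exact congr($this e)

end Laz

section SepClosed

variable {A C : Type u} [CommRing A] [CommRing C] [Algebra A C]

/-- A field which is a quotient of the base change of an ind-étale algebra to a separably closed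
field `k` is `k` itself. -/
theorem algebraMap_surjective (h : Laz A C) (k : Type u) [Field k] [IsSepClosed k] [Algebra A k]
    (L : Type u) [Field L] [Algebra k L] (φ : k ⊗[A] C →ₐ[k] L) (hφ : Function.Surjective φ) :
    Function.Surjective (algebraMap k L) := by
  intro x
  obtain ⟨z, rfl⟩ := hφ x
  obtain ⟨s, rfl⟩ := TensorProduct.exists_finset z
  obtain ⟨E, _, _, _, χ, e, he⟩ := Laz.exists_family h (fun i : s => i.1.2)
  let ψ : k ⊗[A] E →ₐ[k] L := φ.comp (Algebra.TensorProduct.map (AlgHom.id k k) χ)
  have hmem : φ (∑ i ∈ s, i.1 ⊗ₜ[A] i.2) ∈ ψ.range := by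
    refine ⟨∑ i : s, i.1.1 ⊗ₜ[A] e i, ?_⟩
    change ψ _ = _
    rw [← Finset.sum_coe_sort s, map_sum, map_sum]
    refine Finset.sum_congr rfl fun i _ => ?_
    change φ (Algebra.TensorProduct.map (AlgHom.id k k) χ (i.1.1 ⊗ₜ[A] e i)) = _
    rw [Algebra.TensorProduct.map_tmul, he]
    rfl
  have hun : Algebra.FormallyUnramified k ψ.range :=
    Algebra.FormallyUnramified.of_surjective ψ.rangeRestrict ψ.rangeRestrict_surjective
  have hft : Algebra.FiniteType k ψ.range :=
    Algebra.FiniteType.of_surjective ψ.rangeRestrict ψ.rangeRestrict_surjective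
  have hfin : Module.Finite k ψ.range := Algebra.FormallyUnramified.finite_of_free k ψ.range
  have hfield : IsField ψ.range := isField_of_isIntegral_of_isField' (Field.toIsField k)
  let _ : Field ψ.range := hfield.toField
  have hsep : Algebra.IsSeparable k ψ.range := Algebra.FormallyUnramified.isSeparable k ψ.range
  obtain ⟨y, hy⟩ := IsSepClosed.algebraMap_surjective k ψ.range ⟨_, hmem⟩
  exact ⟨y, congrArg Subtype.val hy⟩

/-- Points of ind-étale faithfully flat algebras over separably closed fields. -/
theorem exists_algHom_field (h : Laz A C) [Module.FaithfullyFlat A C] (k : Type u) [Field k]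
    [IsSepClosed k] [Algebra A k] : Nonempty (C →ₐ[A] k) := by
  have : Nontrivial (k ⊗[A] C) := inferInstance
  obtain ⟨m, hm⟩ := Ideal.exists_maximal (k ⊗[A] C)
  let _ : Field ((k ⊗[A] C) ⧸ m) := Ideal.Quotient.field m
  have hs := algebraMap_surjective h k ((k ⊗[A] C) ⧸ m) (Ideal.Quotient.mkₐ k m)
    (Ideal.Quotient.mkₐ_surjective k m)
  let e : k ≃ₐ[k] ((k ⊗[A] C) ⧸ m) := AlgEquiv.ofBijective (Algebra.ofId k _)
    ⟨(algebraMap k ((k ⊗[A] C) ⧸ m)).injective, hs⟩
  exact ⟨((e.symm.toAlgHom.comp (Ideal.Quotient.mkₐ k m)).restrictScalars A).comp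
    Algebra.TensorProduct.includeRight⟩

end SepClosed

/-- **LIFT**: ind-étale faithfully flat algebras have points in strictly henselian rings. -/
theorem exists_algHom {A C T : Type u} [CommRing A] [CommRing C] [CommRing T] [Algebra A C]
    [Algebra A T] (h : Laz A C) [Module.FaithfullyFlat A C] [HenselianLocalRing T]
    [IsSepClosed (IsLocalRing.ResidueField T)] : Nonempty (C →ₐ[A] T) := by
  obtain ⟨τ⟩ := exists_algHom_field h (IsLocalRing.ResidueField T)
  obtain ⟨g, -, -⟩ := existsUnique_algHom τ h
  exact ⟨g⟩

/-- **(L) LIFT**: an arbitrary ring map from a local ring `A` to a strictly henselian ring `R`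
extends to the strict henselization `C` of `A`. -/
theorem exists_lift (A C R : Type u) [CommRing A] [IsLocalRing A] [CommRing C] [IsLocalRing C]
    [Algebra A C] [IsLocalHom (algebraMap A C)] [Hensel.IsStrictHenselization A C]
    [CommRing R] [HenselianLocalRing R] [IsSepClosed (IsLocalRing.ResidueField R)]
    (f : A →+* R) : ∃ g : C →+* R, g.comp (algebraMap A C) = f := by
  let _ : Algebra A R := f.toAlgebra
  have := faithfullyFlat_of_isStrictHenselization A C
  obtain ⟨g⟩ := exists_algHom (T := R) (laz_of_isStrictHenselization A C)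
  exact ⟨g.toRingHom, g.comp_algebraMap⟩

end Groth.Agent.Sga7.H993.Lift
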